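import Groth.Agent.CohAffLib.SecHom
import Groth.Agent.GenDescLib.Sections
import Groth.Agent.GenDescLib.Alg
import Groth.Agent.GenDescLib.FibMap
import Groth.Prelude.Def_StMod2

/-!
# Surjectivity of maps of sections of direct images descends
-/

set_option autoImplicit false
set_option linter.style.haveILetI false
set_option backward.isDefEq.respectTransparency false
set_option backward.isDefEq.respectTransparency.types false
set_option maxHeartbeats 800000

universe u

open CategoryTheory CategoryTheory.Limits AlgebraicGeometry AlgSp FibCat FibLib AlgStLib Opposite StMod GenDescLib TensorProduct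
open CategoryTheory.Functor (Fiber IsPreFibered IsStronglyCartesian)

noncomputable section

namespace CohAffLib

/-- An element killed by a jointly surjective family of flat algebras is zero. -/
theorem eq_zero_of_tmul_family {A : Type u} [CommRing A] {N : Type u} [AddCommGroup N] [Module A N] {κ : Type u}
    (B : κ → Type u) [∀ j, CommRing (B j)] [∀ j, Algebra A (B j)] [∀ j, Module.Flat A (B j)]
    (hs : ∀ P : PrimeSpectrum A, ∃ (j : κ) (Q : PrimeSpectrum (B j)), Q.comap (algebraMap A (B j)) = P)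
    (z : N) (hz : ∀ j, (1 : B j) ⊗ₜ[A] z = 0) : z = 0 := by
  let f := LinearMap.toSpanSingleton A N z
  by_contra hne
  have hI : LinearMap.ker f ≠ ⊤ := fun h => hne (by
    have h1 : (1 : A) ∈ LinearMap.ker f := h ▸ Submodule.mem_top
    simpa [f] using h1)
  obtain ⟨P, hP, hle⟩ := Ideal.exists_le_maximal (LinearMap.ker f) hI
  obtain ⟨j, Q, hQ⟩ := hs ⟨P, hP.isPrime⟩
  have h1 : f.lTensor (B j) ((1 : B j) ⊗ₜ[A] (1 : A)) = 0 := by simp [f, hz j]
  obtain ⟨t, ht⟩ := ((Module.Flat.lTensor_exact (B j) (LinearMap.exact_subtype_ker_map f)) _).1 h1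
  let μ : B j ⊗[A] A →ₗ[A] B j := (TensorProduct.rid A (B j)).toLinearMap
  have h2 : ∀ t, μ ((LinearMap.ker f).subtype.lTensor (B j) t) ∈ Q.asIdeal := fun t => by
    induction t using TensorProduct.induction_on with
    | zero => simp
    | tmul b x =>
      have hx : algebraMap A (B j) x.1 ∈ Q.asIdeal := by
        have : (x.1 : A) ∈ (Q.comap (algebraMap A (B j))).asIdeal := by rw [hQ]; exact hle x.2
        exact this
      simp only [μ, LinearMap.lTensor_tmul, LinearEquiv.coe_coe, TensorProduct.rid_tmul, Algebra.smul_def]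
      exact Q.asIdeal.mul_mem_right _ hx
    | add a b ha hb => rw [map_add, map_add]; exact Q.asIdeal.add_mem ha hb
  have h3 := h2 t
  rw [ht] at h3
  simp only [μ, LinearEquiv.coe_coe, TensorProduct.rid_tmul, one_smul] at h3
  exact Q.isPrime.ne_top ((Ideal.eq_top_iff_one _).2 h3)

/-- Primes come from a jointly surjective family of affine schemes. -/
theorem exists_prime_of_surj {T : Scheme.{u}} [IsAffine T] {κ : Type u} {T' : κ → Scheme.{u}}
    [∀ j, IsAffine (T' j)] (τ : ∀ j, T' j ⟶ T) (hs : ∀ x : T, ∃ j, x ∈ Set.range (τ j))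
    (P : PrimeSpectrum Γ(T, ⊤)) :
    ∃ (j : κ) (Q : PrimeSpectrum Γ(T' j, ⊤)), Q.comap (τ j).appTop.hom = P := by
  obtain ⟨x, hx⟩ : ∃ x, T.toSpecΓ x = P :=
    ⟨T.isoSpec.inv P, show T.isoSpec.hom (T.isoSpec.inv P) = P by
      rw [← Scheme.Hom.comp_apply, Iso.inv_hom_id]; rfl⟩
  obtain ⟨j, y, rfl⟩ := hs x
  refine ⟨j, (T' j).toSpecΓ y, ?_⟩
  rw [← hx, ← Scheme.Hom.comp_apply, Scheme.toSpecΓ_naturality]
  rfl

variable {S : Scheme.{u}} {𝒳 𝒴 : AlgSt.Cat S} [IsFibGrpd 𝒳.p] [IsFibGrpd 𝒴.p] {π : 𝒳 ⥤ᵇ 𝒴}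

theorem mapTop_comapFst (η : 𝒴.obj) (F : Mod 𝒳) {x' x : (fibCat π η).obj} (φ : x' ⟶ x)
    (v : Γ(F.obj x.left, ⊤)) :
    (Mod.comap (fibFst π η) F).mapTop φ v = F.mapTop φ.left v := by
  show ((Mod.comap (fibFst π η) F).map φ rfl).app ⊤ v = (F.map φ.left rfl).app ⊤ v
  rw [Mod.comap_map]
  exact congr($(congrArg (fun t => Scheme.Modules.Hom.app t ⊤) (castMap_rfl_self _ _)) v)

/-- The family of a section. -/
theorem relSect_compat {η : 𝒴.obj} {F : Mod 𝒳} (s : Mod.RelSect π F η) {x' x : (fibCat π η).obj} (φ : x' ⟶ x) :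
    (Mod.comap (fibFst π η) F).mapTop φ (s.1 x.left x.hom) = s.1 x'.left x'.hom := by
  rw [mapTop_comapFst, s.2 φ.left x.hom]
  exact congrArg (s.1 x'.left) (CostructuredArrow.w φ)

/-- A compatible family as a section. -/
def ofFamily {η : 𝒴.obj} {F : Mod 𝒳} (t : ∀ x : (fibCat π η).obj, Γ((Mod.comap (fibFst π η) F).obj x, ⊤))
    (ht : ∀ {x' x} (φ : x' ⟶ x), (Mod.comap (fibFst π η) F).mapTop φ (t x) = t x') : Mod.RelSect π F η :=
  ⟨fun ξ α => t (CostructuredArrow.mk (S := π.toFunctor) (Y := ξ) α), fun ξ' ξ φ α => by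
    have h := ht (x' := CostructuredArrow.mk (S := π.toFunctor) (Y := ξ') (π.map φ ≫ α))
      (x := CostructuredArrow.mk (S := π.toFunctor) (Y := ξ) α) (CostructuredArrow.homMk φ rfl)
    rw [mapTop_comapFst] at h
    exact h⟩

/-- Surjectivity on sections of direct images descends along flat jointly surjective affine families. -/
theorem surjective_relSectMap_of_family {η : 𝒴.obj} [IsAffine (sch 𝒴 η)] {w0 r : (fibCat π η).obj} {p q : r ⟶ w0}
    (hW : Chart (fibCat π η) w0 r p q) [IsAffine (sch (fibCat π η) w0)] [IsAffine (sch (fibCat π η) r)]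
    {κ : Type u} (η' : κ → 𝒴.obj) (haff : ∀ j, IsAffine (sch 𝒴 (η' j))) (m : ∀ j, η' j ⟶ η)
    (hfl : ∀ j, Flat (bmap 𝒴 (m j))) (hsurj : ∀ t : sch 𝒴 η, ∃ j, t ∈ Set.range (bmap 𝒴 (m j)))
    {F G : QCoh 𝒳} (u : F ⟶ G) (h : ∀ j, Function.Surjective (Mod.relSectMap π u.hom (η' j))) :
    Function.Surjective (Mod.relSectMap π u.hom η) := by
  intro s
  haveI := haff; haveI := hfl
  let F0 := (comapQ (fibFst π η)).obj F
  let G0 := (comapQ (fibFst π η)).obj G
  let A := Γ(sch 𝒴 η, ⊤)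
  let sv : Γ(G0.obj.obj w0, ⊤) := s.1 w0.left w0.hom
  let uv : Γ(F0.obj.obj w0, ⊤) → Γ(G0.obj.obj w0, ⊤) := fun v => (u.hom.app w0.left).app ⊤ v
  letI : Module A Γ(F0.obj.obj w0, ⊤) := Module.compHom _ (fibBase w0).appTop.hom
  letI : Module A Γ(F0.obj.obj r, ⊤) := Module.compHom _ (fibBase r).appTop.hom
  letI : Module A Γ(G0.obj.obj w0, ⊤) := Module.compHom _ (fibBase w0).appTop.hom
  have hcomp : ∀ {X Y Z : Scheme.{u}} (f : X ⟶ Y) (g : Y ⟶ Z) (a : Γ(Z, ⊤)),
      (f ≫ g).appTop a = f.appTop (g.appTop a) := fun f g a => by rw [Scheme.Hom.comp_appTop]; rfl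
  let res : ∀ (e : r ⟶ w0), Γ(F0.obj.obj w0, ⊤) →ₗ[A] Γ(F0.obj.obj r, ⊤) := fun e =>
    { toFun := F0.obj.mapTop e
      map_add' := F0.obj.mapTop_add e
      map_smul' := fun a z => by
        show F0.obj.mapTop e ((fibBase w0).appTop a • z) = (fibBase r).appTop a • F0.obj.mapTop e z
        rw [Mod.mapTop_smul, ← hcomp, bmap_fibBase] }
  let uA : Γ(F0.obj.obj w0, ⊤) →ₗ[A] Γ(G0.obj.obj w0, ⊤) :=
    { toFun := uv
      map_add' := fun a b => map_add _ a b
      map_smul' := fun a z => QCohLib.app_smul (u.hom.app w0.left) ⊤ ((fibBase w0).appTop a) z }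
  let N0 := Submodule.map uA (LinearMap.ker (res p - res q))
  suffices H : sv ∈ N0 by
    obtain ⟨v, hv, hv'⟩ := H
    obtain ⟨t, ht, htv⟩ := exists_family F0.property.1 F0.property.2 hW v (sub_eq_zero.1 hv)
    refine ⟨ofFamily t ht, ?_⟩
    have key := family_ext (M := G0.obj) G0.property.1 hW
      (fun x => (Mod.relSectMap π u.hom η (ofFamily t ht)).1 x.left x.hom) (fun x => s.1 x.left x.hom)
      (fun φ => relSect_compat _ φ) (fun φ => relSect_compat _ φ) (by
        show uv (t _) = sv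
        exact (congrArg uv htv).trans hv')
    exact Mod.RelSect.ext _ _ _ fun ξ α => congrFun key (CostructuredArrow.mk (S := π.toFunctor) (Y := ξ) α)
  letI : ∀ j, Algebra A Γ(sch 𝒴 (η' j), ⊤) := fun j => (bmap 𝒴 (m j)).appTop.hom.toAlgebra
  haveI : ∀ j, Module.Flat A Γ(sch 𝒴 (η' j), ⊤) := fun j => by
    have h1 : (bmap 𝒴 (m j)).appTop.hom.Flat := HasRingHomProperty.appTop (P := @Flat) _ (hfl j)
    exact h1
  rw [← Submodule.Quotient.mk_eq_zero]
  refine eq_zero_of_tmul_family (fun j => Γ(sch 𝒴 (η' j), ⊤))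
    (exists_prime_of_surj (fun j => bmap 𝒴 (m j)) hsurj) _ fun j => ?_
  let τ := bmap 𝒴 (m j)
  obtain ⟨w0', e, k, hk, hb⟩ := exists_over (m j) w0 _ (pullback.fst (fibBase w0) τ) (pullback.snd (fibBase w0) τ)
    pullback.condition
  obtain ⟨r', e', l, hl, hb'⟩ := exists_over (m j) r _ (pullback.fst (fibBase r) τ) (pullback.snd (fibBase r) τ)
    pullback.condition
  have sqk : IsPullback (bmap (fibCat π η) k) (fibBase w0') (fibBase w0) τ :=
    IsPullback.of_iso_pullback ⟨by rw [hk, hb, Category.assoc, Category.assoc, pullback.condition]⟩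
      (eqToIso e) hk.symm hb.symm
  have sql : IsPullback (bmap (fibCat π η) l) (fibBase r') (fibBase r) τ :=
    IsPullback.of_iso_pullback ⟨by rw [hl, hb', Category.assoc, Category.assoc, pullback.condition]⟩
      (eqToIso e') hl.symm hb'.symm
  have lift : ∀ (x : r ⟶ w0), ∃ x' : r' ⟶ w0', (fibMap π (m j)).map x' ≫ k = l ≫ x ∧
      bmap (fibCat π η) ((fibMap π (m j)).map x') ≫ fibBase w0' = fibBase r' := fun x => by
    let ρ := sqk.lift (bmap (fibCat π η) (l ≫ x)) (fibBase r')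
      (by rw [bmap_comp, Category.assoc, bmap_fibBase, sql.w])
    obtain ⟨θ, hθ, hθ'⟩ := fib_fac k (l ≫ x) ρ (sqk.lift_fst _ _ _)
    have hθb : bmap (fibCat π η) θ ≫ fibBase w0' = fibBase r' := by rw [hθ']; exact sqk.lift_snd _ _ _
    obtain ⟨φ, rfl⟩ := exists_map (m j) θ hθb
    exact ⟨φ, hθ, hθb⟩
  obtain ⟨p', hp, hp2⟩ := lift p
  obtain ⟨q', hq, hq2⟩ := lift q
  let x0 := (fibMap π (m j)).obj w0'
  let x1 := (fibMap π (m j)).obj r'
  let P' := (fibMap π (m j)).map p'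
  let Q' := (fibMap π (m j)).map q'
  let A' := Γ(sch 𝒴 (η' j), ⊤)
  letI : Module A' Γ(F0.obj.obj x0, ⊤) := Module.compHom _ (fibBase w0').appTop.hom
  letI : Module A' Γ(F0.obj.obj x1, ⊤) := Module.compHom _ (fibBase r').appTop.hom
  letI : Module A' Γ(G0.obj.obj x0, ⊤) := Module.compHom _ (fibBase w0').appTop.hom
  letI : Module A Γ(F0.obj.obj x0, ⊤) := Module.compHom _ ((fibBase w0').appTop.hom.comp τ.appTop.hom)
  letI : Module A Γ(F0.obj.obj x1, ⊤) := Module.compHom _ ((fibBase r').appTop.hom.comp τ.appTop.hom)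
  letI : Module A Γ(G0.obj.obj x0, ⊤) := Module.compHom _ ((fibBase w0').appTop.hom.comp τ.appTop.hom)
  haveI : IsScalarTower A A' Γ(F0.obj.obj x0, ⊤) := IsScalarTower.of_algebraMap_smul fun _ _ => rfl
  haveI : IsScalarTower A A' Γ(F0.obj.obj x1, ⊤) := IsScalarTower.of_algebraMap_smul fun _ _ => rfl
  haveI : IsScalarTower A A' Γ(G0.obj.obj x0, ⊤) := IsScalarTower.of_algebraMap_smul fun _ _ => rfl
  let kF : Γ(F0.obj.obj w0, ⊤) →ₗ[A] Γ(F0.obj.obj x0, ⊤) :=
    { toFun := F0.obj.mapTop k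
      map_add' := F0.obj.mapTop_add k
      map_smul' := fun a z => by
        show F0.obj.mapTop k ((fibBase w0).appTop a • z) = (fibBase w0').appTop (τ.appTop a) • F0.obj.mapTop k z
        rw [Mod.mapTop_smul, ← hcomp, sqk.w, hcomp]; rfl }
  let lF : Γ(F0.obj.obj r, ⊤) →ₗ[A] Γ(F0.obj.obj x1, ⊤) :=
    { toFun := F0.obj.mapTop l
      map_add' := F0.obj.mapTop_add l
      map_smul' := fun a z => by
        show F0.obj.mapTop l ((fibBase r).appTop a • z) = (fibBase r').appTop (τ.appTop a) • F0.obj.mapTop l z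
        rw [Mod.mapTop_smul, ← hcomp, sql.w, hcomp]; rfl }
  let kG : Γ(G0.obj.obj w0, ⊤) →ₗ[A] Γ(G0.obj.obj x0, ⊤) :=
    { toFun := G0.obj.mapTop k
      map_add' := G0.obj.mapTop_add k
      map_smul' := fun a z => by
        show G0.obj.mapTop k ((fibBase w0).appTop a • z) = (fibBase w0').appTop (τ.appTop a) • G0.obj.mapTop k z
        rw [Mod.mapTop_smul, ← hcomp, sqk.w, hcomp]; rfl }
  have hkF : IsBaseChange A' kF := isBaseChange_mapTop F0.obj F0.property.1 F0.property.2 k τ (fibBase w0)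
    (fibBase w0') sqk rfl (fun _ _ => rfl) (fun _ _ => rfl) kF fun _ => rfl
  have hlF : IsBaseChange A' lF := isBaseChange_mapTop F0.obj F0.property.1 F0.property.2 l τ (fibBase r)
    (fibBase r') sql rfl (fun _ _ => rfl) (fun _ _ => rfl) lF fun _ => rfl
  have hkG : IsBaseChange A' kG := isBaseChange_mapTop G0.obj G0.property.1 G0.property.2 k τ (fibBase w0)
    (fibBase w0') sqk rfl (fun _ _ => rfl) (fun _ _ => rfl) kG fun _ => rfl
  let L' : Γ(F0.obj.obj x0, ⊤) →ₗ[A'] Γ(F0.obj.obj x1, ⊤) :=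
    { toFun := fun z => F0.obj.mapTop P' z - F0.obj.mapTop Q' z
      map_add' := fun a b => by rw [Mod.mapTop_add, Mod.mapTop_add]; abel
      map_smul' := fun a z => by
        show F0.obj.mapTop P' ((fibBase w0').appTop a • z) - F0.obj.mapTop Q' ((fibBase w0').appTop a • z) =
          (fibBase r').appTop a • (F0.obj.mapTop P' z - F0.obj.mapTop Q' z)
        rw [smul_sub, Mod.mapTop_smul, Mod.mapTop_smul]
        exact congrArg₂ (fun c d => c • F0.obj.mapTop P' z - d • F0.obj.mapTop Q' z)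
          ((hcomp _ _ a).symm.trans (congrArg (fun t => Scheme.Hom.appTop t a) hp2))
          ((hcomp _ _ a).symm.trans (congrArg (fun t => Scheme.Hom.appTop t a) hq2)) }
  have hL : ∀ z, L' (kF z) = lF ((res p - res q) z) := fun z => by
    show F0.obj.mapTop P' (F0.obj.mapTop k z) - F0.obj.mapTop Q' (F0.obj.mapTop k z) =
      lF (F0.obj.mapTop p z - F0.obj.mapTop q z)
    rw [map_sub, ← Mod.mapTop_comp, ← Mod.mapTop_comp, hp, hq, Mod.mapTop_comp, Mod.mapTop_comp]
    rfl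
  -- the section over the base change
  let s' : Mod.RelSect π G.obj (η' j) := ⟨fun ξ α => s.1 ξ (α ≫ m j), fun ξ' ξ φ α => by
    rw [s.2 φ (α ≫ m j)]; exact congrArg (s.1 ξ') (Category.assoc _ _ _).symm⟩
  obtain ⟨t', ht'⟩ := h j s'
  let tv : Γ(F0.obj.obj x0, ⊤) := t'.1 w0'.left w0'.hom
  have htv : L' tv = 0 := by
    show F0.obj.mapTop P' tv - F0.obj.mapTop Q' tv = 0
    rw [sub_eq_zero]
    exact ((mapTop_comapFst η F.obj P' tv).trans ((mapTop_comapFst (η' j) F.obj p' _).symm.trans (relSect_compat t' p'))).trans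
      ((mapTop_comapFst η F.obj Q' tv).trans ((mapTop_comapFst (η' j) F.obj q' _).symm.trans (relSect_compat t' q'))).symm
  have hsv : kG sv = (u.hom.app w0'.left).app ⊤ tv := by
    show G0.obj.mapTop k sv = _
    rw [show G0.obj.mapTop k sv = s.1 x0.left x0.hom from relSect_compat s k]
    exact (congrArg (fun σ : Mod.RelSect π G.obj (η' j) => σ.1 w0'.left w0'.hom) ht').symm
  let Q := Γ(G0.obj.obj w0, ⊤) ⧸ N0
  let Ψ : Γ(G0.obj.obj x0, ⊤) →ₗ[A'] A' ⊗[A] Q :=
    (N0.mkQ.baseChange A') ∘ₗ hkG.equiv.symm.toLinearMap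
  have hΨ : ∀ z, Ψ (kG z) = (1 : A') ⊗ₜ[A] N0.mkQ z := fun z => by
    show (N0.mkQ.baseChange A') (hkG.equiv.symm (kG z)) = _
    rw [hkG.equiv_symm_apply, LinearMap.baseChange_tmul]
  let uA' : Γ(F0.obj.obj x0, ⊤) →ₗ[A'] Γ(G0.obj.obj x0, ⊤) :=
    { toFun := fun z => (u.hom.app w0'.left).app ⊤ z
      map_add' := fun c d => map_add _ c d
      map_smul' := fun c z => QCohLib.app_smul (u.hom.app w0'.left) ⊤ ((fibBase w0').appTop c) z }
  have h1 : ∀ v, uA' (kF v) = kG (uA v) := fun v =>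
    (congrArg (fun t => (u.hom.app w0'.left).app ⊤ t) (mapTop_comapFst η F.obj k v)).trans
      ((Mod.mapTop_app u.hom k.left v).symm.trans (mapTop_comapFst η G.obj k _).symm)
  have hle : Submodule.span A' (kF '' (LinearMap.ker (res p - res q) : Set _)) ≤ LinearMap.ker (Ψ ∘ₗ uA') := by
    rw [Submodule.span_le]
    rintro _ ⟨v, hv, rfl⟩
    show Ψ (uA' (kF v)) = 0
    rw [h1, hΨ, show N0.mkQ (uA v) = 0 from (Submodule.Quotient.mk_eq_zero _).2 ⟨v, hv, rfl⟩, tmul_zero]
  have h2 : Ψ (uA' tv) = 0 := hle (mem_span_ker_of_flat hkF hlF (res p - res q) L' hL tv htv)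
  rw [show uA' tv = kG sv from hsv.symm, hΨ] at h2
  exact h2

end CohAffLib
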