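import Groth.Prelude.Def_StMod2
import Groth.Prelude.Def_StMod6
import Groth.Agent.FibLib.Fp

/-!
# Sections of direct images along a base change
-/

set_option autoImplicit false
set_option linter.style.haveILetI false
set_option backward.isDefEq.respectTransparency false
set_option backward.isDefEq.respectTransparency.types false
set_option maxHeartbeats 400000

universe u

open CategoryTheory CategoryTheory.Limits AlgebraicGeometry AlgSp FibCat FibLib Opposite StMod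

noncomputable section

namespace CohAffLib

/-- A section read along an equality of schemes. -/
def castSec {X T : Scheme.{u}} (h : X = T) {M : X.Modules} (v : Γ(M, ⊤)) : Γ(castMod h M, ⊤) := by
  subst h; exact v

theorem castMap_castSec {X X' T T' : Scheme.{u}} (hX : X = T) (hX' : X' = T') {g₁ : X' ⟶ X} {g : T' ⟶ T}
    (hg : g₁ ≫ eqToHom hX = eqToHom hX' ≫ g) {M : X.Modules} {N : X'.Modules}
    (m : M ⟶ (Scheme.Modules.pushforward g₁).obj N) (v : Γ(M, ⊤)) :
    (castMap hX hX' hg m).app ⊤ (castSec hX v) = castSec hX' (m.app ⊤ v) := by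
  subst hX hX'
  obtain rfl : g₁ = g := by simpa using hg
  rw [castMap_rfl_self]
  rfl

theorem castHom_castSec {X T : Scheme.{u}} (h : X = T) {M N : X.Modules} (a : M ⟶ N) (v : Γ(M, ⊤)) :
    (castHom h a).app ⊤ (castSec h v) = castSec h (a.app ⊤ v) := by
  subst h; rfl

theorem castHom_surjective {X T : Scheme.{u}} (h : X = T) {M N : X.Modules} (a : M ⟶ N)
    (ha : Function.Surjective (a.app ⊤)) : Function.Surjective ((castHom h a).app ⊤) := by
  subst h; exact ha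

variable {S : Scheme.{u}} {𝒳 𝒴 : AlgSt.Cat S} (f : 𝒴 ⥤ᵇ 𝒳)

theorem isSurj_comap {F G : Mod 𝒳} (u : F ⟶ G) (hu : Mod.IsSurj u) : Mod.IsSurj (Mod.comapMap f u) := fun y hy => by
  have h : sch 𝒳 (f.obj y) = sch 𝒴 y := sch_obj_eq f y
  haveI : IsAffine (sch 𝒳 (f.obj y)) := by rw [h]; exact hy
  exact castHom_surjective _ (u.app (f.obj y)) (hu _ this)

theorem mapTop_comap_castSec (F : Mod 𝒳) {y' y : 𝒴.obj} (φ : y' ⟶ y) (v : Γ(F.obj (f.obj y), ⊤)) :
    (Mod.comap f F).mapTop φ (castSec (sch_obj_eq f y) v) = castSec (sch_obj_eq f y') (F.mapTop (f.map φ) v) := by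
  show ((Mod.comap f F).map φ rfl).app ⊤ _ = _
  rw [Mod.comap_map]
  exact castMap_castSec (sch_obj_eq f y) (sch_obj_eq f y') (bmap_map_comm f φ rfl) (F.map (f.map φ) rfl) v

variable {M M' : AlgSp.Sp S} (g : M' ⟶ M) (π : 𝒳 ⥤ᵇ AlgSt.ofSp M) (η : (AlgSt.ofSp M').obj)

variable {π η}

/-- The first component of the object of the base change. -/
def bcFst (x : 𝒳.obj) (β : π.obj x ⟶ (AlgSt.ofSpMap g).obj η) : (AlgSt.ofSp M').obj :=
  ⟨𝒳.p.obj x, M'.obj.map (baseOver π x β).op η.sec⟩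

theorem bcFst_sec (x : 𝒳.obj) (β : π.obj x ⟶ (AlgSt.ofSpMap g).obj η) :
    M.obj.map (baseOver π x β).op (g.hom.app _ η.sec) = g.hom.app _ (M'.obj.map (baseOver π x β).op η.sec) :=
  (NatTrans.naturality_apply g.hom _ _).symm

/-- The identification of the two images. -/
def bcIso (x : 𝒳.obj) (β : π.obj x ⟶ (AlgSt.ofSpMap g).obj η) :
    (AlgSt.ofSpMap g).obj (bcFst g x β) ≅ π.obj x where
  hom := ⟨eqToHom (π.w_obj x).symm, by
    refine Eq.trans ?_ (bcFst_sec g x β)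
    rw [← β.map_sec, ← Functor.map_comp_apply, ← op_comp]
    rfl⟩
  inv := ⟨eqToHom (π.w_obj x), by
    refine (congrArg (M.obj.map (eqToHom (π.w_obj x)).op) (bcFst_sec g x β).symm).trans ?_
    rw [← β.map_sec, ← Functor.map_comp_apply, ← op_comp]
    refine congrArg (fun k : (π.obj x).base ⟶ η.base => M.obj.map (Quiver.Hom.op k) (g.hom.app _ η.sec)) ?_
    show eqToHom (π.w_obj x) ≫ eqToHom (π.w_obj x).symm ≫ β.hom = β.hom
    simp⟩
  hom_inv_id := Stk.EltObj.hom_ext (by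
    show eqToHom (π.w_obj x).symm ≫ eqToHom (π.w_obj x) = 𝟙 (𝒳.p.obj x)
    simp)
  inv_hom_id := Stk.EltObj.hom_ext (by
    show eqToHom (π.w_obj x) ≫ eqToHom (π.w_obj x).symm = 𝟙 (π.obj x).base
    simp)

theorem bcIso_lift (x : 𝒳.obj) (β : π.obj x ⟶ (AlgSt.ofSpMap g).obj η) :
    (AlgSt.ofSp M).p.IsHomLift (𝟙 ((AlgSt.ofSp M').p.obj (bcFst g x β))) (bcIso g x β).hom :=
  IsHomLift.of_fac' (AlgSt.ofSp M).p _ (bcIso g x β).hom rfl (π.w_obj x) (by
    show eqToHom (π.w_obj x).symm = _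
    simp)

/-- The object of the base change at a morphism into the image. -/
def bcPt (x : 𝒳.obj) (β : π.obj x ⟶ (AlgSt.ofSpMap g).obj η) : (fp (AlgSt.ofSpMap g) π).obj :=
  fpObj (F := AlgSt.ofSpMap g) (G := π) (bcFst g x β) x (bcIso g x β) (bcIso_lift g x β)

/-- The morphism to the given object from the object of the base change. -/
def bcPtHom (x : 𝒳.obj) (β : π.obj x ⟶ (AlgSt.ofSpMap g).obj η) :
    (fpFst (AlgSt.ofSpMap g) π).obj (bcPt g x β) ⟶ η :=
  (⟨baseOver π x β, rfl⟩ : (bcPt g x β).obj.fst ⟶ η)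

theorem bcPt_fac (x : 𝒳.obj) (β : π.obj x ⟶ (AlgSt.ofSpMap g).obj η) :
    (bcPt g x β).obj.iso.inv ≫ (AlgSt.ofSpMap g).map (bcPtHom g x β) = β := by
  refine Stk.EltObj.hom_ext ?_
  show eqToHom (π.w_obj x) ≫ eqToHom (π.w_obj x).symm ≫ β.hom = β.hom
  simp

/-- Surjectivity on sections of the direct image passes from a base change to the image. -/
theorem surjective_relSectMap_of_fpFst {F G : QCoh 𝒳} (u : F ⟶ G)
    (h : Function.Surjective (Mod.relSectMap (fpFst (AlgSt.ofSpMap g) π)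
      ((comapQ (fpSnd (AlgSt.ofSpMap g) π)).map u).hom η)) :
    Function.Surjective (Mod.relSectMap π u.hom ((AlgSt.ofSpMap g).obj η)) := by
  intro s
  let P := fpSnd (AlgSt.ofSpMap g) π
  let s' : Mod.RelSect (fpFst (AlgSt.ofSpMap g) π) (Mod.comap P G.obj) η :=
    ⟨fun ζ α => castSec (sch_obj_eq P ζ) (s.1 ζ.obj.snd (ζ.obj.iso.inv ≫ (AlgSt.ofSpMap g).map α)),
      fun ζ' ζ φ α => by
        refine (mapTop_comap_castSec P G.obj φ _).trans ?_
        refine congrArg (castSec _) ((s.2 φ.hom.snd _).trans (congrArg (s.1 ζ'.obj.snd) ?_))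
        rw [(AlgSt.ofSpMap g).toFunctor.map_comp]
        have hw := φ.hom.w
        rw [← cancel_epi ζ'.obj.iso.hom, Iso.hom_inv_id_assoc, ← Category.assoc]
        erw [← hw]
        rw [Category.assoc, Iso.hom_inv_id_assoc]
        rfl⟩
  obtain ⟨t, ht⟩ := h s'
  refine ⟨⟨fun x β => t.1 (bcPt g x β) (bcPtHom g x β), fun x' x φ β => ?_⟩, ?_⟩
  · let a : (bcPt g x' (π.map φ ≫ β)).obj.fst ⟶ (bcPt g x β).obj.fst := ⟨𝒳.p.map φ, by
      show M'.obj.map (𝒳.p.map φ).op (M'.obj.map (baseOver π x β).op η.sec) = _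
      rw [← Functor.map_comp_apply, ← op_comp, map_comp_baseOver]
      rfl⟩
    let Φ : bcPt g x' (π.map φ ≫ β) ⟶ bcPt g x β := fpHom a φ (Stk.EltObj.hom_ext (by
      show 𝒳.p.map φ ≫ eqToHom (π.w_obj x).symm = eqToHom (π.w_obj x').symm ≫ (π.map φ).hom
      haveI : (AlgSt.ofSp M).p.IsHomLift (𝒳.p.map φ) (π.map φ) :=
        haveI := IsHomLift.map 𝒳.p φ
        π.preserves_isHomLift _ φ
      rw [show (π.map φ).hom = _ from IsHomLift.fac' (AlgSt.ofSp M).p (𝒳.p.map φ) (π.map φ)]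
      simp))
    have h1 := t.2 Φ (bcPtHom g x β)
    have e : (fpFst (AlgSt.ofSpMap g) π).map Φ ≫ bcPtHom g x β = bcPtHom g x' (π.map φ ≫ β) :=
      Stk.EltObj.hom_ext (map_comp_baseOver π φ β)
    rw [e] at h1
    refine Eq.trans ?_ h1
    show (F.obj.map φ rfl).app ⊤ _ = ((Mod.comap P F.obj).map Φ rfl).app ⊤ _
    rw [Mod.comap_map]
    exact (congr($(congrArg (fun q => Scheme.Modules.Hom.app q ⊤) (castMap_rfl_self _ (F.obj.map φ rfl))) _)).symm
  · refine Mod.RelSect.ext _ _ _ fun x β => ?_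
    have h1 := congrArg (fun σ => σ.1 (bcPt g x β) (bcPtHom g x β)) ht
    show (u.hom.app x).app ⊤ (t.1 (bcPt g x β) (bcPtHom g x β)) = s.1 x β
    refine Eq.trans ?_ (h1.trans ?_)
    · rfl
    · show s.1 x ((bcPt g x β).obj.iso.inv ≫ (AlgSt.ofSpMap g).map (bcPtHom g x β)) = s.1 x β
      rw [bcPt_fac]

end CohAffLib
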