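import Groth.Agent.CohAffLib.Desc
import Groth.Agent.CohAffLib.Transfer
import Groth.Agent.GenDescLib.Atlas
import Groth.Agent.AlgSpLib.Points
import Groth.Agent.AlgSpLib.LocP
import Groth.Agent.AlgStLib.Basic

/-!
# Cohomological affineness descends along flat surjective base change
-/

set_option autoImplicit false
set_option linter.style.haveILetI false
set_option backward.isDefEq.respectTransparency false
set_option backward.isDefEq.respectTransparency.types false
set_option maxHeartbeats 400000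

universe u

open CategoryTheory CategoryTheory.Limits AlgebraicGeometry AlgSp AlgSpLib FibCat FibLib Opposite StMod GenDescLib

noncomputable section

namespace CohAffLib

variable {S : Scheme.{u}}

/-- The object of a scheme over the sheaf. -/
theorem etaOf_map_sec {M M' : AlgSp.Sp S} (g : M' ⟶ M) {E : EtOver M} {E' : EtOver M'} (h : E'.obj.left ⟶ E.obj.left)
    (w : (yon S).map h ≫ E.obj.hom = E'.obj.hom ≫ g) :
    M.obj.map h.op (etaOf E).sec = ((AlgSt.ofSpMap g).obj (etaOf E')).sec := by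
  show M.obj.map h.op ((AlgSp.J S).uliftYonedaEquiv E.obj.hom) = g.hom.app _ ((AlgSp.J S).uliftYonedaEquiv E'.obj.hom)
  rw [GrothendieckTopology.uliftYonedaEquiv_naturality, ← GrothendieckTopology.uliftYonedaEquiv_comp]
  exact congrArg _ w

/-- Cohomological affineness descends along a flat surjective base change. -/
theorem isCohAffine_of_fpFst {𝒳 : AlgSt.Cat S} [IsFibGrpd 𝒳.p] {M M' : AlgSp.Sp S} (hM' : IsAlgSpace M')
    (g : M' ⟶ M) (hgf : AlgSp.LocP @Flat g) (hgs : AlgSp.IsSurjectiveMor g) (π : 𝒳 ⥤ᵇ AlgSt.ofSp M)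
    (hqc : AlgSt.IsQuasiCompactMor Scheme.fppfPrecoverage π) (hqs : AlgSt.IsQuasiSeparatedMor π)
    (h' : StMod.IsCohAffine (FibCat.fpFst (AlgSt.ofSpMap g) π)) : StMod.IsCohAffine π := by
  intro F G u hu E hE
  haveI : IsFibGrpd (AlgSt.ofSp M).p := Stk.isFibGrpd_ofPsh _
  haveI : IsAffine (sch (AlgSt.ofSp M) (etaOf E)) := hE
  obtain ⟨U', b, hb, hbs⟩ := hM'.atlas
  obtain ⟨W, p, q, sq⟩ := exists_isPullback_yon E.obj.hom (b ≫ g) E.property.rep
  have hq : RepWith @Etale ((yon S).map q) := repWith_of_isPullback sq E.property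
  let a : (yon S).obj W ⟶ M' := (yon S).map q ≫ b
  have ha : RepWith @Etale a := repWith_comp hq hb
  have hw : (yon S).map p ≫ E.obj.hom = a ≫ g := sq.w.trans (Category.assoc _ _ _).symm
  haveI : Flat p.left := hgf a E.obj.hom p ha E.property hw.symm
  have hps : ∀ v : E.obj.left.left, ∃ w : W.left, p.left w = v := fun v => by
    obtain ⟨m', hm'⟩ := hgs (Points.ofPt E.obj.hom v)
    obtain ⟨u', hu'⟩ := surjective_ofPt hbs m'
    obtain ⟨w, hw1, -⟩ := (ofPt_eq_ofPt_iff sq v u').1 (by rw [← Points.map_ofPt, hu', hm'])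
    exact ⟨w, hw1⟩
  let Wj : W.left.affineOpens → Over S := fun U => Over.mk (U.1.ι ≫ W.hom)
  let ij : ∀ U, Wj U ⟶ W := fun U => Over.homMk U.1.ι rfl
  have hij : ∀ U, RepWith @Etale ((yon S).map (ij U) ≫ a) := fun U =>
    repWith_comp ((repWith_yon_map_iff (P := (@Etale : MorphismProperty Scheme.{u})) (ij U)).2
      (inferInstance : Etale U.1.ι)) ha
  let E' : W.left.affineOpens → EtOver M' := fun U => EtOver.mk ((yon S).map (ij U) ≫ a) (hij U)
  let η' : W.left.affineOpens → (AlgSt.ofSp M).obj := fun U => (AlgSt.ofSpMap g).obj (etaOf (E' U))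
  let m : ∀ U, η' U ⟶ etaOf E := fun U => ⟨ij U ≫ p, etaOf_map_sec g (E := E) (E' := E' U) (ij U ≫ p) (by
    show (yon S).map (ij U ≫ p) ≫ E.obj.hom = ((yon S).map (ij U) ≫ a) ≫ g
    rw [Functor.map_comp, Category.assoc, Category.assoc, hw])⟩
  have haff : ∀ U, IsAffine (sch (AlgSt.ofSp M) (η' U)) := fun U => U.2
  have hfl : ∀ U, Flat (bmap (AlgSt.ofSp M) (m U)) := fun U => by
    change Flat (U.1.ι ≫ p.left)
    infer_instance
  have hcov : ∀ t : sch (AlgSt.ofSp M) (etaOf E), ∃ U, t ∈ Set.range (bmap (AlgSt.ofSp M) (m U)) := fun t => by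
    obtain ⟨w, rfl⟩ := hps t
    obtain ⟨U, hU, hwU, -⟩ := exists_isAffineOpen_mem_and_subset (x := w) (U := ⊤) trivial
    exact ⟨⟨U, hU⟩, ⟨w, hwU⟩, rfl⟩
  obtain ⟨w0, r, pc, qc, hw0, hr, hW⟩ := exists_chartData hqc hqs (etaOf E)
  haveI := hw0
  haveI := hr
  refine surjective_relSectMap_of_family hW η' haff m hfl hcov u fun U => ?_
  exact surjective_relSectMap_of_fpFst g u
    (h' ((comapQ (fpSnd (AlgSt.ofSpMap g) π)).map u) (isSurj_comap _ u.hom hu) (E' U) (haff U))

end CohAffLib
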