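import Groth.Agent.GenDescLib.Glue
import Groth.Agent.KFlatLib.PerfectPull
import Groth.Agent.QCohLib.Gen

/-!
# Sections on the charts of a category over the base
-/

set_option autoImplicit false
set_option linter.style.haveILetI false
set_option backward.isDefEq.respectTransparency false
set_option backward.isDefEq.respectTransparency.types false

universe w v u

open CategoryTheory CategoryTheory.Limits AlgebraicGeometry Opposite StMod GenDescLib

noncomputable section

namespace CohAffLib

variable {S : Scheme.{u}} {W : BasedCategory.{v, w} (Over S)} (M : Mod W)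

/-- The morphism from the structure sheaf given by a section. -/
def hs (x : W.obj) (v : Γ(M.obj x, ⊤)) : (O W).obj x ⟶ M.obj x := QCohLib.unitHom (M.obj x) v

/-- The unit section of the structure sheaf. -/
def oneSec (x : W.obj) : Γ((O W).obj x, ⊤) := (1 : Γ(sch W x, ⊤))

theorem hs_one (x : W.obj) (v : Γ(M.obj x, ⊤)) : (hs M x v).app ⊤ (oneSec x) = v := by
  refine (QCohLib.unitHom_app (M.obj x) v ⊤ (1 : Γ(sch W x, ⊤))).trans ((one_smul _ _).trans ?_)
  exact congr($((M.obj x).presheaf.map_id _) v)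

theorem hom_ext_one {x : W.obj} {h₁ h₂ : (O W).obj x ⟶ M.obj x}
    (e : h₁.app ⊤ (oneSec x) = h₂.app ⊤ (oneSec x)) : h₁ = h₂ :=
  (KFlatLib.unitSecEquiv (M.obj x)).injective e

theorem mapTop_oneSec {x' x : W.obj} (k : x' ⟶ x) : (O W).mapTop k (oneSec x) = oneSec x' :=
  (O_mapTop W k 1).trans (map_one (bmap W k).appTop.hom)

theorem pull_hs {x' x : W.obj} (k : x' ⟶ x) (v : Γ(M.obj x, ⊤)) :
    pull (O W) M isCartesian_O k (hs M x v) = hs M x' (M.mapTop k v) := by
  refine hom_ext_one M ?_
  rw [hs_one, ← mapTop_oneSec k, pull_app, hs_one]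

variable {M}

/-- Sections are determined on a flat surjective cover. -/
theorem mapTop_injective (hM : M.IsCartesian) {x' x : W.obj} (c : x' ⟶ x) (hfl : Flat (bmap W c))
    (hs' : Surjective (bmap W c)) : Function.Injective (M.mapTop c) := fun v v' e => by
  have h : hs M x v = hs M x v' := eq_of_pull₁ isCartesian_O c hfl hs' hM (by rw [pull_hs, pull_hs, e])
  rw [← hs_one M x v, h, hs_one]

variable {w0 r : W.obj} {p q : r ⟶ w0}

/-- A section on the chart with equal restrictions to the relations extends to a compatible family. -/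
theorem exists_family (hM : M.IsCartesian) (hMq : M.IsLocQCoh) (hW : Chart W w0 r p q) (v : Γ(M.obj w0, ⊤))
    (hv : M.mapTop p v = M.mapTop q v) :
    ∃ t : ∀ x, Γ(M.obj x, ⊤), (∀ {x' x} (φ : x' ⟶ x), M.mapTop φ (t x) = t x') ∧ t w0 = v := by
  obtain ⟨h, hh⟩ := hW.exists_hom isCartesian_O hM hMq (hs M w0 v) (by rw [pull_hs, pull_hs, hv])
  refine ⟨fun x => (h.app x).app ⊤ (oneSec x), fun {x' x} φ => ?_, ?_⟩
  · exact (Mod.mapTop_app h φ _).trans (congrArg _ (mapTop_oneSec φ))
  · show (h.app w0).app ⊤ (oneSec w0) = v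
    rw [hh, hs_one]

/-- A compatible family is determined on the chart. -/
theorem family_ext (hM : M.IsCartesian) (hW : Chart W w0 r p q) (s s' : ∀ x, Γ(M.obj x, ⊤))
    (hs₁ : ∀ {x' x} (φ : x' ⟶ x), M.mapTop φ (s x) = s x') (hs₂ : ∀ {x' x} (φ : x' ⟶ x), M.mapTop φ (s' x) = s' x')
    (e : s w0 = s' w0) : s = s' := funext fun x => by
  obtain ⟨x', c, a, hc, hsur, -⟩ := hW.cov x
  refine mapTop_injective hM c hc hsur ?_
  rw [hs₁ c, hs₂ c, ← hs₁ a, ← hs₂ a, e]

end CohAffLib
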